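import Groth.Agent.GrpSchLib.CartierCore
import Mathlib.RingTheory.LocalRing.ResidueField.Basic
import Mathlib.RingTheory.Flat.Basic
import Mathlib.Algebra.CharP.Algebra
import Mathlib.LinearAlgebra.FreeModule.StrongRankCondition
import Mathlib.FieldTheory.Perfect
import Mathlib.RingTheory.TensorProduct.Maps
import Mathlib.RingTheory.Artinian.Ring
import Mathlib.LinearAlgebra.Matrix.NonsingularInverse
import Mathlib.LinearAlgebra.Dimension.Free

/-!
# The order of an infinitesimal finite group is a power of the characteristic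

A finite local algebra over a perfect field with a comultiplication admitting a counit has dimension a
power of the characteristic exponent: it has enough derivations, so it is free over the subalgebra of
`p`-th powers on the monomials of exponents `< p` in a minimal system of generators.
-/

open MvPolynomial TensorProduct

namespace Groth.Agent.FinGrpLib

universe u v w

section Monomials

variable {R : Type u} [CommRing R] {B : Type v} [CommRing B] [Algebra R B]
variable {σ : Type w} [Fintype σ] [DecidableEq σ]

theorem derivation_aeval' (D : Derivation R B B) (x : σ → B)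
    (P : MvPolynomial σ R) : D (aeval x P) = ∑ i, aeval x (pderiv i P) * D (x i) := by
  induction P using MvPolynomial.induction_on with
  | C c => simp
  | add p q hp hq => simp only [map_add, hp, hq, add_mul, Finset.sum_add_distrib]
  | mul_X p j hp =>
    simp only [map_mul, aeval_X, Derivation.leibniz, smul_eq_mul, hp, map_add, pderiv_X,
      add_mul, Finset.sum_add_distrib]
    congr 1
    · rw [Finset.sum_eq_single j]
      · simp
      · intro i _ hi; simp [Pi.single_eq_of_ne (Ne.symm hi)]
      · simp
    · rw [Finset.mul_sum]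
      exact Finset.sum_congr rfl fun i _ => by ring

theorem eq_zero_of_exact_dual (x : σ → B) (D : σ → Derivation R B B)
    (hD : ∀ i j, D i (x j) = if i = j then 1 else 0) (hinj : Function.Injective (algebraMap R B))
    (q : ℕ) (hq : ∀ i, 0 < i → i < q → IsUnit (i : R))
    (P : MvPolynomial σ R) (hdeg : ∀ d ∈ P.support, ∀ i, d i < q) (h0 : aeval x P = 0) : P = 0 := by
  suffices ∀ (N : ℕ) (P : MvPolynomial σ R), (∀ d ∈ P.support, ∀ i, d i < q) →
      (∀ d ∈ P.support, ∑ i, d i ≤ N) → aeval x P = 0 → P = 0 from
    this (P.support.sup fun d => ∑ i, d i) P hdeg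
      (fun d hd => Finset.le_sup (f := fun d : σ →₀ ℕ => ∑ i, d i) hd) h0
  clear hdeg h0 P
  intro N
  induction N with
  | zero =>
    intro P _ hN h0
    have hP : P = C (coeff 0 P) := by
      ext d
      rw [coeff_C]
      split_ifs with h
      · rw [← h]
      · by_contra hd
        apply h
        have := Nat.le_zero.mp (hN d (mem_support_iff.mpr hd))
        ext i
        simpa using ((Finset.sum_eq_zero_iff.mp this) i (Finset.mem_univ i)).symm
    rw [hP, aeval_C, ← map_zero (algebraMap R B)] at h0
    rw [hP, hinj h0, map_zero]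
  | succ N ih =>
    intro P hdeg hN h0
    have hd : ∀ i, pderiv i P = 0 := by
      intro i
      refine ih _ (fun d hd l => ?_) (fun d hd => ?_) ?_
      · have : d + Finsupp.single i 1 ∈ P.support := by
          rw [mem_support_iff, coeff_pderiv] at hd
          exact mem_support_iff.mpr (left_ne_zero_of_mul hd)
        have := hdeg _ this l
        simp only [Finsupp.add_apply] at this
        omega
      · have : d + Finsupp.single i 1 ∈ P.support := by
          rw [mem_support_iff, coeff_pderiv] at hd
          exact mem_support_iff.mpr (left_ne_zero_of_mul hd)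
        have := hN _ this
        simp only [Finsupp.add_apply, Finset.sum_add_distrib, Finsupp.single_apply, Finset.sum_ite_eq,
          Finset.mem_univ, if_true] at this
        omega
      · have := congrArg (D i) h0
        rw [map_zero, derivation_aeval'] at this
        simpa [hD] using this
    refine ih P hdeg (fun d hd' => ?_) h0
    by_contra hlt
    obtain ⟨i, hi⟩ : ∃ i, 0 < d i := by
      by_contra hall
      push Not at hall
      have : ∑ i, d i = 0 := Finset.sum_eq_zero fun i _ => Nat.le_zero.mp (hall i)
      omega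
    have hc := congrArg (coeff (d - Finsupp.single i 1)) (hd i)
    have he : d - Finsupp.single i 1 + Finsupp.single i 1 = d := by
      ext l
      by_cases hl : l = i
      · subst hl; simp; omega
      · simp [hl]
    have hu : IsUnit (((d - Finsupp.single i 1 : σ →₀ ℕ) i : R) + 1) := by
      have := hq (d i) hi (hdeg d hd' i)
      have e : ((d - Finsupp.single i 1 : σ →₀ ℕ) i) + 1 = d i := by simp; omega
      rw [← e] at this
      simpa [Nat.cast_add] using this
    rw [coeff_pderiv, coeff_zero, he] at hc
    exact mem_support_iff.mp hd' (hu.mul_left_eq_zero.mp hc)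

theorem linearIndependent_monomials (x : σ → B) (D : σ → Derivation R B B)
    (hD : ∀ i j, D i (x j) = if i = j then 1 else 0) (hinj : Function.Injective (algebraMap R B))
    (q : ℕ) (hq : ∀ i, 0 < i → i < q → IsUnit (i : R)) :
    LinearIndependent R (fun α : σ → Fin q => ∏ i, x i ^ (α i : ℕ)) := by
  rw [Fintype.linearIndependent_iff]
  intro g hg α
  let toF : (σ → Fin q) → (σ →₀ ℕ) := fun β => Finsupp.equivFunOnFinite.symm fun i => (β i : ℕ)
  have htoF : Function.Injective toF := fun a b h => funext fun i => Fin.ext (DFunLike.congr_fun h i)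
  have hP : (∑ β, monomial (toF β) (g β)) = (0 : MvPolynomial σ R) := by
    refine eq_zero_of_exact_dual x D hD hinj q hq _ (fun d hd i => ?_) ?_
    · rw [mem_support_iff, coeff_sum] at hd
      obtain ⟨β, -, hβ⟩ := Finset.exists_ne_zero_of_sum_ne_zero hd
      rw [coeff_monomial] at hβ
      split_ifs at hβ with h
      · rw [← h]; exact (β i).2
      · exact absurd rfl hβ
    · rw [map_sum]
      refine Eq.trans (Finset.sum_congr rfl fun β _ => ?_) hg
      rw [aeval_monomial, ← Algebra.smul_def, Finsupp.prod_fintype _ _ fun i => pow_zero _]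
      simp [toF]
  have := congrArg (coeff (toF α)) hP
  rwa [coeff_sum, coeff_zero, Finset.sum_eq_single α, coeff_monomial, if_pos rfl] at this
  · intro β _ hβ
    rw [coeff_monomial, if_neg (htoF.ne hβ)]
  · simp

end Monomials

variable {k : Type u} [Field k] {B : Type v} [CommRing B] [Algebra k B]

theorem exists_exact_dual [IsLocalRing B] {n : ℕ} (x : Fin n → B) (D : Fin n → Derivation k B B)
    (hD : ∀ i j, D i (x j) - (if i = j then 1 else 0) ∈ IsLocalRing.maximalIdeal B) :
    ∃ D' : Fin n → Derivation k B B, ∀ i j, D' i (x j) = if i = j then 1 else 0 := by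
  let M : Matrix (Fin n) (Fin n) B := Matrix.of fun i j => D i (x j)
  have hM : IsUnit M.det := by
    rw [← IsLocalRing.notMem_maximalIdeal, ← Ideal.Quotient.eq_zero_iff_mem]
    have : (IsLocalRing.residue B) M.det = 1 := by
      rw [RingHom.map_det]
      have : (IsLocalRing.residue B).mapMatrix M = 1 := by
        ext i j
        have h := (Ideal.Quotient.eq (I := IsLocalRing.maximalIdeal B)).mpr (hD i j)
        simp only [RingHom.mapMatrix_apply, Matrix.map_apply, M, Matrix.of_apply, Matrix.one_apply]
        refine Eq.trans h ?_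
        split_ifs
        · exact map_one _
        · exact map_zero _
      rw [this, Matrix.det_one]
    intro h
    exact (one_ne_zero : (1 : IsLocalRing.ResidueField B) ≠ 0) (this.symm.trans h)
  refine ⟨fun i => ∑ l, M⁻¹ i l • D l, fun i j => ?_⟩
  rw [← Derivation.coeFnAddMonoidHom_apply, map_sum, Finset.sum_apply]
  have := congrFun (congrFun (Matrix.nonsing_inv_mul M hM) i) j
  rw [Matrix.mul_apply, Matrix.one_apply] at this
  exact this

/-- `a ⊗ b ↦ a * f b`. -/
noncomputable def sliceLin (f : B →ₗ[k] k) : B ⊗[k] B →ₗ[k] B :=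
  (TensorProduct.rid k B).toLinearMap ∘ₗ LinearMap.lTensor B f

theorem sliceLin_tmul (f : B →ₗ[k] k) (a b : B) : sliceLin f (a ⊗ₜ b) = f b • a := by
  simp [sliceLin]

theorem sliceLin_mul_aux (ε : B →ₐ[k] k) (l : B →ₗ[k] k)
    (hl : ∀ a b, l (a * b) = l a * ε b + ε a * l b) (z w : B ⊗[k] B) :
    sliceLin l (z * w) =
      sliceLin l z * sliceLin ε.toLinearMap w + sliceLin ε.toLinearMap z * sliceLin l w := by
  induction z using TensorProduct.induction_on with
  | zero => simp
  | add z₁ z₂ h₁ h₂ => simp only [add_mul, map_add, h₁, h₂]; abel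
  | tmul a b =>
    induction w using TensorProduct.induction_on with
    | zero => simp
    | add w₁ w₂ h₁ h₂ => simp only [mul_add, map_add, h₁, h₂]; abel
    | tmul c d =>
      simp only [Algebra.TensorProduct.tmul_mul_tmul, sliceLin_tmul, AlgHom.toLinearMap_apply, hl,
        Algebra.smul_def, map_add, map_mul]
      ring

theorem cotangent_leibniz (ε : B →ₐ[k] k) (l : B →ₗ[k] k) (h1 : l 1 = 0)
    (h2 : ∀ a ∈ RingHom.ker ε ^ 2, l a = 0) (a b : B) : l (a * b) = l a * ε b + ε a * l b := by
  have h := h2 ((a - algebraMap k B (ε a)) * (b - algebraMap k B (ε b))) (by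
    rw [pow_two]; exact Ideal.mul_mem_mul (by simp [RingHom.mem_ker]) (by simp [RingHom.mem_ker]))
  have e : (a - algebraMap k B (ε a)) * (b - algebraMap k B (ε b)) =
      a * b - ε b • a - ε a • b + (ε a * ε b) • 1 := by
    simp only [Algebra.smul_def, map_mul]; ring
  rw [e, map_add, map_sub, map_sub, map_smul, map_smul, map_smul, h1] at h
  simp only [smul_eq_mul, mul_zero] at h
  linear_combination h

/-- Data: a counital comultiplication. -/
structure CounitalComul (k : Type u) [Field k] (B : Type v) [CommRing B] [Algebra k B] where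
  ε : B →ₐ[k] k
  Δ : B →ₐ[k] B ⊗[k] B
  lid : ∀ b, Algebra.TensorProduct.lift ((Algebra.ofId k B).comp ε) (AlgHom.id k B)
    (fun _ _ => .all _ _) (Δ b) = b
  rid : ∀ b, Algebra.TensorProduct.lift (AlgHom.id k B) ((Algebra.ofId k B).comp ε)
    (fun _ _ => .all _ _) (Δ b) = b

namespace CounitalComul

variable (c : CounitalComul k B)

theorem sliceLin_ε (b : B) : sliceLin c.ε.toLinearMap (c.Δ b) = b := by
  conv_rhs => rw [← c.rid b]
  generalize c.Δ b = z
  induction z using TensorProduct.induction_on with
  | zero => simp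
  | add z₁ z₂ h₁ h₂ => simp only [map_add, h₁, h₂]
  | tmul a a' => simp [sliceLin_tmul, Algebra.smul_def, mul_comm]

theorem ε_sliceLin (l : B →ₗ[k] k) (b : B) : c.ε (sliceLin l (c.Δ b)) = l b := by
  conv_rhs => rw [← c.lid b]
  generalize c.Δ b = z
  induction z using TensorProduct.induction_on with
  | zero => simp
  | add z₁ z₂ h₁ h₂ => simp only [map_add, h₁, h₂]
  | tmul a a' =>
    rw [Algebra.TensorProduct.lift_tmul, sliceLin_tmul]
    simp only [AlgHom.comp_apply, AlgHom.coe_id, id_eq, Algebra.ofId_apply, map_smul, smul_eq_mul]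
    rw [← Algebra.smul_def, map_smul, smul_eq_mul, mul_comm]

theorem exists_derivation (l : B →ₗ[k] k) (h1 : l 1 = 0)
    (h2 : ∀ a ∈ RingHom.ker c.ε ^ 2, l a = 0) :
    ∃ D : Derivation k B B, ∀ b, D b - algebraMap k B (l b) ∈ RingHom.ker c.ε := by
  have hmul : ∀ a b, sliceLin l (c.Δ (a * b)) = a * sliceLin l (c.Δ b) + b * sliceLin l (c.Δ a) := by
    intro a b
    rw [map_mul, sliceLin_mul_aux c.ε l (cotangent_leibniz c.ε l h1 h2), c.sliceLin_ε, c.sliceLin_ε]
    ring
  refine ⟨Derivation.mk' (sliceLin l ∘ₗ c.Δ.toLinearMap) (fun a b => hmul a b), fun b => ?_⟩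
  rw [RingHom.mem_ker, map_sub, AlgHom.commutes]
  show c.ε (sliceLin l (c.Δ b)) - _ = 0
  rw [c.ε_sliceLin]
  simp

end CounitalComul

theorem maximalIdeal_eq_ker [IsLocalRing B] (ε : B →ₐ[k] k) : IsLocalRing.maximalIdeal B = RingHom.ker ε := by
  have : (RingHom.ker ε).IsMaximal :=
    RingHom.ker_isMaximal_of_surjective ε fun x => ⟨algebraMap k B x, by simp⟩
  exact (IsLocalRing.eq_maximalIdeal this).symm

/-- A finite local algebra with counital comultiplication: generators and exact dual derivations. -/
theorem exists_generators_dual [Module.Finite k B] [IsLocalRing B] (c : CounitalComul k B) :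
    ∃ (n : ℕ) (x : Fin n → B) (D : Fin n → Derivation k B B),
      (∀ i j, D i (x j) = if i = j then 1 else 0) ∧
      Function.Surjective (aeval x : MvPolynomial (Fin n) k →ₐ[k] B) := by
  have : IsArtinianRing B := isArtinian_of_tower k inferInstance
  have : IsNoetherianRing B := isNoetherian_of_tower k inferInstance
  have hm := maximalIdeal_eq_ker c.ε
  have hres : ∀ b, ∃ a : k, b - algebraMap k B a ∈ IsLocalRing.maximalIdeal B := fun b =>
    ⟨c.ε b, by rw [hm, RingHom.mem_ker, map_sub, AlgHom.commutes]; simp⟩
  obtain ⟨n, x, D, hx, hspan, hD⟩ := Groth.Agent.GrpSchLib.exists_dual_system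
    (IsLocalRing.maximalIdeal B) (IsNoetherian.noetherian _)
    (IsLocalRing.maximalIdeal.isMaximal B).ne_top hres (fun l h1 h2 => by
      rw [hm] at h2 ⊢
      exact c.exists_derivation l h1 h2)
  obtain ⟨D', hD'⟩ := exists_exact_dual x D hD
  refine ⟨n, x, D', hD', fun b => ?_⟩
  have key : ∀ j, ∀ b : B, ∃ P : MvPolynomial (Fin n) k, b - aeval x P ∈ IsLocalRing.maximalIdeal B ^ j := by
    intro j
    induction j with
    | zero => exact fun b => ⟨0, by simp⟩
    | succ j ih =>
      intro b
      obtain ⟨P, hP⟩ := ih b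
      obtain ⟨Q, -, hQ⟩ := Groth.Agent.GrpSchLib.exists_homogeneous_approx _ hres x hspan hx j _ hP
      exact ⟨P + Q, by rwa [map_add, ← sub_sub]⟩
  obtain ⟨N, hN⟩ : IsNilpotent (IsLocalRing.maximalIdeal B) := by
    rw [← IsLocalRing.jacobson_eq_maximalIdeal ⊥ bot_ne_top]
    exact IsArtinianRing.isNilpotent_jacobson_bot
  obtain ⟨P, hP⟩ := key N b
  rw [hN, Ideal.zero_eq_bot, Ideal.mem_bot, sub_eq_zero] at hP
  exact ⟨P, hP.symm⟩

section CharP

variable (p : ℕ) [Fact p.Prime] [CharP B p] [CharP k p] [PerfectRing k p]

/-- The subalgebra of `p`-th powers. -/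
def pthPowers : Subalgebra k B :=
  { (frobenius B p).range.toSubsemiring with
    algebraMap_mem' := fun a => by
      obtain ⟨r, rfl⟩ := surjective_frobenius k p a
      exact ⟨algebraMap k B r, by simp [frobenius_def, map_pow]⟩ }

theorem pow_mem_pthPowers (a : B) : a ^ p ∈ pthPowers (k := k) p (B := B) := ⟨a, rfl⟩

theorem mem_pthPowers {y : B} (hy : y ∈ pthPowers (k := k) p (B := B)) : ∃ a, a ^ p = y := hy

theorem derivation_pthPowers (D : Derivation k B B) {y : B} (hy : y ∈ pthPowers (k := k) p (B := B)) :
    D y = 0 := by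
  obtain ⟨a, rfl⟩ := mem_pthPowers p hy
  rw [Derivation.leibniz_pow, ← Nat.cast_smul_eq_nsmul B, CharP.cast_eq_zero, zero_smul]

/-- The monomials with exponents `< p` form a basis over the `p`-th powers. -/
theorem finrank_eq_pow_mul [Module.Finite k B] {n : ℕ} (x : Fin n → B) (D : Fin n → Derivation k B B)
    (hD : ∀ i j, D i (x j) = if i = j then 1 else 0)
    (hgen : Function.Surjective (aeval x : MvPolynomial (Fin n) k →ₐ[k] B)) :
    Module.finrank k B = p ^ n * Module.finrank k (pthPowers (k := k) p (B := B)) := by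
  let K0 := pthPowers (k := k) p (B := B)
  have hp : p.Prime := Fact.out
  let D' : Fin n → Derivation K0 B B := fun i => Derivation.mk'
    { toFun := D i
      map_add' := map_add _
      map_smul' := fun r b => by
        show D i ((r : B) * b) = (r : B) * D i b
        rw [Derivation.leibniz, derivation_pthPowers p _ r.2]
        simp } (fun a b => (D i).leibniz a b)
  have hli := linearIndependent_monomials (R := K0) x D' hD Subtype.val_injective p (fun i h0 hip => by
    have : IsUnit (i : k) := by
      rw [isUnit_iff_ne_zero, Ne, CharP.cast_eq_zero_iff k p]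
      exact fun h => absurd (Nat.le_of_dvd h0 h) (by omega)
    simpa using this.map (algebraMap k K0))
  have hsp : ⊤ ≤ Submodule.span K0 (Set.range fun α : Fin n → Fin p => ∏ i, x i ^ (α i : ℕ)) := by
    rintro b -
    obtain ⟨P, rfl⟩ := hgen b
    rw [P.as_sum, map_sum]
    refine Submodule.sum_mem _ fun d _ => ?_
    rw [aeval_monomial, Finsupp.prod_fintype _ _ fun i => pow_zero _]
    have e : algebraMap k B (coeff d P) * ∏ i, x i ^ d i =
        ((⟨algebraMap k B (coeff d P) * ∏ i, (x i ^ (d i / p)) ^ p,
          mul_mem (Subalgebra.algebraMap_mem _ _) (prod_mem fun i _ => pow_mem_pthPowers p _)⟩ : K0)) •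
          ∏ i, x i ^ (d i % p) := by
      rw [Subalgebra.smul_def, smul_eq_mul, mul_assoc, ← Finset.prod_mul_distrib]
      congr 1
      refine Finset.prod_congr rfl fun i _ => ?_
      rw [← pow_mul, ← pow_add, mul_comm, Nat.div_add_mod]
    rw [e]
    exact Submodule.smul_mem _ _ (Submodule.subset_span
      ⟨fun i => ⟨d i % p, Nat.mod_lt _ hp.pos⟩, rfl⟩)
  let bas := Module.Basis.mk hli hsp
  have : Module.Free K0 B := Module.Free.of_basis bas
  have : Nontrivial B := CharP.nontrivial_of_char_ne_one hp.ne_one (R := B) (v := p)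
  have : Nontrivial K0 := ⟨⟨0, 1, fun h => zero_ne_one (congrArg Subtype.val h)⟩⟩
  have h1 : Module.finrank K0 B = p ^ n := by
    rw [Module.finrank_eq_card_basis bas]; simp
  have h2 := Module.finrank_mul_finrank k K0 B
  rw [← h2, h1, mul_comm]

/-- The comultiplication restricts to the `p`-th powers. -/
theorem exists_restrict [Nontrivial B] (c : CounitalComul k B) :
    Nonempty (CounitalComul k (pthPowers (k := k) p (B := B))) := by
  let K0 := pthPowers (k := k) p (B := B)
  let ι : K0 ⊗[k] K0 →ₐ[k] B ⊗[k] B := Algebra.TensorProduct.map K0.val K0.val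
  have hι : Function.Injective ι :=
    TensorProduct.map_injective_of_flat_flat _ _ Subtype.val_injective Subtype.val_injective
  have hp : CharP (B ⊗[k] B) p := by
    have : Nontrivial (B ⊗[k] B) := by
      obtain ⟨a, ha⟩ := exists_ne (0 : B)
      exact (Algebra.TensorProduct.lift (AlgHom.id k B) ((Algebra.ofId k B).comp c.ε)
        (fun _ _ => .all _ _)).toRingHom.domain_nontrivial
    exact charP_of_injective_algebraMap (algebraMap k (B ⊗[k] B)).injective p
  have hpow : ∀ z : B ⊗[k] B, z ^ p ∈ ι.range := by
    intro z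
    induction z using TensorProduct.induction_on with
    | zero => rw [zero_pow (Nat.Prime.ne_zero Fact.out)]; exact zero_mem _
    | add z₁ z₂ h₁ h₂ => rw [add_pow_char]; exact add_mem h₁ h₂
    | tmul a b =>
      rw [Algebra.TensorProduct.tmul_pow]
      exact ⟨⟨a ^ p, pow_mem_pthPowers p a⟩ ⊗ₜ ⟨b ^ p, pow_mem_pthPowers p b⟩, rfl⟩
  have hmem : ∀ y : K0, (c.Δ.comp K0.val) y ∈ ι.range := by
    rintro ⟨y, hy⟩
    obtain ⟨a, rfl⟩ := mem_pthPowers p hy
    simpa using hpow (c.Δ a)
  let e : K0 ⊗[k] K0 ≃ₐ[k] ι.range := AlgEquiv.ofInjective ι hι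
  let Δ0 : K0 →ₐ[k] K0 ⊗[k] K0 := e.symm.toAlgHom.comp ((c.Δ.comp K0.val).codRestrict _ hmem)
  have hΔ0 : ∀ y : K0, ι (Δ0 y) = c.Δ y := fun y =>
    congrArg Subtype.val (e.apply_symm_apply ⟨_, hmem y⟩)
  refine ⟨⟨c.ε.comp K0.val, Δ0, fun y => Subtype.val_injective ?_, fun y => Subtype.val_injective ?_⟩⟩
  · refine Eq.trans ?_ (c.lid y)
    rw [← hΔ0]
    generalize Δ0 y = z
    induction z using TensorProduct.induction_on with
    | zero => simp
    | add z₁ z₂ h₁ h₂ => simp only [map_add, Subalgebra.coe_add, h₁, h₂]
    | tmul a b => simp [ι]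
  · refine Eq.trans ?_ (c.rid y)
    rw [← hΔ0]
    generalize Δ0 y = z
    induction z using TensorProduct.induction_on with
    | zero => simp
    | add z₁ z₂ h₁ h₂ => simp only [map_add, Subalgebra.coe_add, h₁, h₂]
    | tmul a b => simp [ι]

theorem isLocalRing_pthPowers [IsLocalRing B] : IsLocalRing (pthPowers (k := k) p (B := B)) := by
  refine IsLocalRing.of_isUnit_or_isUnit_one_sub_self fun y => ?_
  have key : ∀ z : pthPowers (k := k) p (B := B), IsUnit (z : B) → IsUnit z := by
    rintro ⟨z, hz⟩ hu
    obtain ⟨a, rfl⟩ := mem_pthPowers p hz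
    obtain ⟨u, rfl⟩ := (isUnit_pow_iff (Nat.Prime.ne_zero Fact.out)).mp hu
    exact IsUnit.of_mul_eq_one (⟨(↑u⁻¹ : B) ^ p, pow_mem_pthPowers p _⟩)
      (Subtype.ext (by simp [← mul_pow]))
  rcases IsLocalRing.isUnit_or_isUnit_one_sub_self (y : B) with h | h
  · exact .inl (key _ h)
  · exact .inr (key _ h)

end CharP

/-- The dimension of a finite local algebra with counital comultiplication over a perfect field is
a power of the characteristic exponent. -/
theorem finrank_local_eq_pow (q : ℕ) [ExpChar k q] [PerfectRing k q] [Module.Finite k B]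
    [IsLocalRing B] (c : CounitalComul k B) : ∃ e, Module.finrank k B = q ^ e := by
  obtain hz | hp := expChar_is_prime_or_one k q |>.symm
  · subst hz
    have : CharZero k := by
      obtain h | h := ‹ExpChar k 1›
      · infer_instance
      · exact absurd ‹Nat.Prime 1› Nat.not_prime_one
    obtain ⟨n, x, D, hD, hgen⟩ := exists_generators_dual c
    refine ⟨0, ?_⟩
    rw [pow_zero]
    rcases n.eq_zero_or_pos with hn | hn
    · subst hn
      have : Function.Surjective (algebraMap k B) := fun b => by
        obtain ⟨P, rfl⟩ := hgen b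
        exact ⟨coeff 0 P, by
          conv_rhs => rw [MvPolynomial.eq_C_of_isEmpty P]
          simp⟩
      have e : Module.finrank k B ≤ 1 := finrank_le_one (1 : B) fun b => by
        obtain ⟨a, rfl⟩ := this b; exact ⟨a, (Algebra.algebraMap_eq_smul_one a).symm⟩
      have : 0 < Module.finrank k B := Module.finrank_pos
      omega
    · exfalso
      have hli := linearIndependent_monomials (R := k) x D hD (algebraMap k B).injective
        (Module.finrank k B + 1) (fun i h0 _ => (Nat.cast_ne_zero.mpr h0.ne').isUnit)
      have := hli.fintype_card_le_finrank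
      have h2 : Module.finrank k B + 1 ≤ (Module.finrank k B + 1) ^ n := Nat.le_self_pow hn.ne' _
      simp at this
      omega
  · have : Fact q.Prime := ⟨hp⟩
    have : CharP k q := by
      obtain h | h := ‹ExpChar k q›
      · exact absurd hp Nat.not_prime_one
      · assumption
    suffices ∀ (N : ℕ) (B : Type v) [CommRing B] [Algebra k B] [Module.Finite k B] [IsLocalRing B]
        (_ : CounitalComul k B), Module.finrank k B = N → ∃ e, N = q ^ e from this _ B c rfl
    intro N
    induction N using Nat.strong_induction_on with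
    | _ N ih =>
      intro B _ _ _ _ c hN
      have : CharP B q := charP_of_injective_algebraMap (algebraMap k B).injective q
      obtain ⟨n, x, D, hD, hgen⟩ := exists_generators_dual c
      have hmul := finrank_eq_pow_mul q x D hD hgen
      rcases n.eq_zero_or_pos with hn | hn
      · subst hn
        refine ⟨0, ?_⟩
        have e : Module.finrank k B ≤ 1 := finrank_le_one (1 : B) fun b => by
          obtain ⟨P, rfl⟩ := hgen b
          exact ⟨coeff 0 P, by
            conv_rhs => rw [MvPolynomial.eq_C_of_isEmpty P]
            simp [Algebra.smul_def]⟩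
        have : 0 < Module.finrank k B := Module.finrank_pos
        rw [pow_zero]; omega
      · obtain ⟨c0⟩ := exists_restrict q c
        have := isLocalRing_pthPowers (k := k) q (B := B)
        have hlt : Module.finrank k (pthPowers (k := k) q (B := B)) < N := by
          have hpos : 0 < Module.finrank k (pthPowers (k := k) q (B := B)) := Module.finrank_pos
          rw [← hN, hmul]
          exact (Nat.lt_mul_iff_one_lt_left hpos).mpr (Nat.one_lt_pow hn.ne' hp.one_lt)
        obtain ⟨e, he⟩ := ih _ hlt _ c0 rfl
        exact ⟨n + e, by rw [← hN, hmul, he, pow_add]⟩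

end Groth.Agent.FinGrpLib
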