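import Groth.Agent.FinGrpLib.LocalOrder
import Groth.Agent.S18387
import Mathlib.RingTheory.HopfAlgebra.Convolution
import Mathlib.RingTheory.HopfAlgebra.TensorProduct
import Mathlib.RingTheory.Etale.Field
import Mathlib.RingTheory.Etale.Descent
import Mathlib.RingTheory.Jacobson.Ideal
import Mathlib.FieldTheory.IsAlgClosed.AlgebraicClosure
import Mathlib.FieldTheory.IsAlgClosed.Basic
import Mathlib.Algebra.CharP.Lemmas
import Mathlib.LinearAlgebra.FreeModule.Finite.Basic
import Mathlib.GroupTheory.OrderOfElement

/-!
# A finite group scheme over a field is killed by its order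
-/

open WithConv TensorProduct Bialgebra Coalgebra

namespace Groth.Agent.FinGrpLib

universe u v w

section General

variable {K : Type u} [Field K]

theorem isNilpotent_nilradical' (C : Type v) [CommRing C] [Algebra K C] [Module.Finite K C] :
    IsNilpotent (nilradical C) :=
  have : IsArtinianRing C := isArtinian_of_tower K inferInstance
  IsArtinianRing.isNilpotent_nilradical

/-- The powers of an ideal are stationary modulo ideals with nilpotent image. -/
theorem map_eq_zero_of_mem_pow {A : Type u} [CommRing A] [Algebra K A] [Module.Finite K A]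
    {C : Type v} [CommRing C] [Algebra K C] (hC : IsNilpotent (nilradical C)) (f : A →ₐ[K] C)
    (I : Ideal A) (hI : ∀ a ∈ I, f a ∈ nilradical C) {a : A} (ha : a ∈ I ^ Module.finrank K A) :
    f a = 0 := by
  obtain ⟨j, hj⟩ := hC
  have hIj : I ^ j ≤ RingHom.ker f := by
    intro x hx
    have : f x ∈ (I ^ j).map f := Ideal.mem_map_of_mem _ hx
    rw [Ideal.map_pow] at this
    have h2 := Ideal.pow_right_mono (Ideal.map_le_iff_le_comap.mpr fun a ha => Ideal.mem_comap.mpr (hI a ha)) j this
    rwa [hj, Ideal.zero_eq_bot, Ideal.mem_bot] at h2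
  let q := Ideal.Quotient.mkₐ K (I ^ j)
  have hle : Module.finrank K (A ⧸ I ^ j) ≤ Module.finrank K A :=
    q.toLinearMap.finrank_le_finrank_of_surjective Ideal.Quotient.mk_surjective
  have hn : I.map q ≤ nilradical (A ⧸ I ^ j) := Ideal.map_le_iff_le_comap.mpr fun x hx =>
    mem_nilradical.mpr ⟨j, by
      rw [← map_pow]; exact Ideal.Quotient.eq_zero_iff_mem.mpr (Ideal.pow_mem_pow hx j)⟩
  have : q a ∈ nilradical (A ⧸ I ^ j) ^ Module.finrank K (A ⧸ I ^ j) := by
    have h1 : q a ∈ (I.map q) ^ Module.finrank K A := by
      rw [← Ideal.map_pow]; exact Ideal.mem_map_of_mem _ ha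
    exact Ideal.pow_le_pow_right hle (Ideal.pow_right_mono hn _ h1)
  rw [Groth.Agent.S18387.result K (A ⧸ I ^ j), Ideal.mem_bot] at this
  exact hIj (Ideal.Quotient.eq_zero_iff_mem.mp this)

theorem sub_algebraMap_isNilpotent {B : Type v} [CommRing B] [Algebra K B] (ε : B →ₐ[K] K)
    (h : ∀ b, ε b = 0 → IsNilpotent b) (b : B) : IsNilpotent (b - algebraMap K B (ε b)) :=
  h _ (by simp)

theorem isLocalRing_of_ker_nil {B : Type v} [CommRing B] [Algebra K B] (ε : B →ₐ[K] K)
    (h : ∀ b, ε b = 0 → IsNilpotent b) : IsLocalRing B := by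
  have key : ∀ b, ε b ≠ 0 → IsUnit b := fun b hb => by
    have := (sub_algebraMap_isNilpotent ε h b).isUnit_add_left_of_commute
      ((Ne.isUnit hb).map (algebraMap K B)) (Commute.all _ _)
    simpa using this
  have : Nontrivial B := ε.toRingHom.domain_nontrivial
  refine IsLocalRing.of_isUnit_or_isUnit_one_sub_self fun b => ?_
  by_cases hb : ε b = 0
  · exact .inr (key _ (by simp [hb]))
  · exact .inl (key _ hb)

variable {A : Type u} [CommRing A] [Bialgebra K A]

theorem lift_counit_left (a : A) :
    Algebra.TensorProduct.lift ((Algebra.ofId K A).comp (counitAlgHom K A)) (AlgHom.id K A)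
      (fun _ _ => .all _ _) (comul (R := K) a) = a := by
  have h := congrArg (TensorProduct.lid K A) (Coalgebra.rTensor_counit_comul (R := K) a)
  rw [TensorProduct.lid_tmul, one_smul] at h
  conv_rhs => rw [← h]
  generalize comul (R := K) a = z
  induction z using TensorProduct.induction_on with
  | zero => simp
  | add z₁ z₂ h₁ h₂ => simp only [map_add, h₁, h₂]
  | tmul x y => simp [Algebra.smul_def]

theorem lift_counit_right (a : A) :
    Algebra.TensorProduct.lift (AlgHom.id K A) ((Algebra.ofId K A).comp (counitAlgHom K A))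
      (fun _ _ => .all _ _) (comul (R := K) a) = a := by
  have h := congrArg (TensorProduct.rid K A) (Coalgebra.lTensor_counit_comul (R := K) a)
  rw [TensorProduct.rid_tmul, one_smul] at h
  conv_rhs => rw [← h]
  generalize comul (R := K) a = z
  induction z using TensorProduct.induction_on with
  | zero => simp
  | add z₁ z₂ h₁ h₂ => simp only [map_add, h₁, h₂]
  | tmul x y => simp [Algebra.smul_def, mul_comm]

theorem lift_counit_both (a : A) :
    Algebra.TensorProduct.lift (counitAlgHom K A) (counitAlgHom K A)
      (fun _ _ => .all _ _) (comul (R := K) a) = counitAlgHom K A a := by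
  conv_rhs => rw [← lift_counit_left (K := K) a]
  generalize comul (R := K) a = z
  induction z using TensorProduct.induction_on with
  | zero => simp
  | add z₁ z₂ h₁ h₂ => simp only [map_add, h₁, h₂]
  | tmul x y => simp

/-- Postcomposition on points. -/
noncomputable def post {C : Type v} {D : Type w} [CommRing C] [Algebra K C] [CommRing D] [Algebra K D]
    (f : C →ₐ[K] D) : WithConv (A →ₐ[K] C) →* WithConv (A →ₐ[K] D) where
  toFun g := toConv (f.comp g.ofConv)
  map_one' := WithConv.ext (AlgHom.ext fun a => by simp [AlgHom.convOne_def])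
  map_mul' g h := WithConv.ext (AlgHom.comp_convMul_distrib f g h)

@[simp] theorem post_apply {C : Type v} {D : Type w} [CommRing C] [Algebra K C] [CommRing D] [Algebra K D]
    (f : C →ₐ[K] D) (g : WithConv (A →ₐ[K] C)) (a : A) : (post f g).ofConv a = f (g.ofConv a) := rfl

theorem eq_of_forall {C : Type v} [CommRing C] [Algebra K C] {g h : WithConv (A →ₐ[K] C)}
    (e : ∀ a, g.ofConv a = h.ofConv a) : g = h := WithConv.ext (AlgHom.ext e)

theorem one_apply {C : Type v} [CommRing C] [Algebra K C] (a : A) :
    (1 : WithConv (A →ₐ[K] C)).ofConv a = algebraMap K C (counitAlgHom K A a) :=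
  AlgHom.convOne_apply a

section Infinitesimal

variable (K A) [Module.Finite K A]

/-- The ideal cutting out the neutral component. -/
noncomputable def ideal0 : Ideal A := RingHom.ker (counitAlgHom K A) ^ Module.finrank K A

/-- The functions on the neutral component. -/
abbrev A0 : Type u := A ⧸ ideal0 K A

/-- The counit of the neutral component. -/
noncomputable def ε0 : A0 K A →ₐ[K] K :=
  Ideal.Quotient.liftₐ _ (counitAlgHom K A) fun _ ha =>
    map_eq_zero_of_mem_pow ⟨1, by simp [nilradical_eq_zero]⟩ (counitAlgHom K A) _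
      (fun x hx => by rw [RingHom.mem_ker.mp hx]; exact zero_mem _) ha

@[simp] theorem ε0_mk (a : A) : ε0 K A (Ideal.Quotient.mk _ a) = counitAlgHom K A a := rfl

theorem isNilpotent_of_ε0 (b : A0 K A) (hb : ε0 K A b = 0) : IsNilpotent b := by
  obtain ⟨a, rfl⟩ := Ideal.Quotient.mk_surjective b
  refine ⟨Module.finrank K A, ?_⟩
  rw [← map_pow, Ideal.Quotient.eq_zero_iff_mem]
  exact Ideal.pow_mem_pow (by simpa using hb) _

theorem isLocalRing_A0 : IsLocalRing (A0 K A) := isLocalRing_of_ker_nil _ (isNilpotent_of_ε0 K A)

theorem lift_ε0_nil (z : A0 K A ⊗[K] A0 K A)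
    (hz : Algebra.TensorProduct.lift (ε0 K A) (ε0 K A) (fun _ _ => .all _ _) z = 0) : IsNilpotent z := by
  suffices ∀ z : A0 K A ⊗[K] A0 K A, IsNilpotent (z - algebraMap K _
      (Algebra.TensorProduct.lift (ε0 K A) (ε0 K A) (fun _ _ => .all _ _) z)) by
    simpa [hz] using this z
  intro z
  induction z using TensorProduct.induction_on with
  | zero => simp
  | add z₁ z₂ h₁ h₂ =>
    rw [map_add, map_add, add_sub_add_comm]
    exact (Commute.all _ _).isNilpotent_add h₁ h₂
  | tmul a b =>
    have hn := sub_algebraMap_isNilpotent (ε0 K A) (isNilpotent_of_ε0 K A)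
    have e : a ⊗ₜ[K] b - algebraMap K _
        (Algebra.TensorProduct.lift (ε0 K A) (ε0 K A) (fun _ _ => .all _ _) (a ⊗ₜ b)) =
        Algebra.TensorProduct.includeLeft (R := K) (S := K) (a - algebraMap K _ (ε0 K A a)) * (1 ⊗ₜ b) +
        Algebra.TensorProduct.includeRight (R := K) (A := A0 K A) (b - algebraMap K _ (ε0 K A b)) *
          algebraMap K _ (ε0 K A a) := by
      simp only [Algebra.TensorProduct.lift_tmul, map_sub, AlgHom.commutes, map_mul, sub_mul,
        Algebra.TensorProduct.includeLeft_apply, Algebra.TensorProduct.includeRight_apply,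
        Algebra.TensorProduct.tmul_mul_tmul, one_mul, mul_one]
      ring
    rw [e]
    exact (Commute.all _ _).isNilpotent_add ((Commute.all _ _).isNilpotent_mul_right ((hn a).map _))
      ((Commute.all _ _).isNilpotent_mul_right ((hn b).map _))

/-- The comultiplication of the neutral component. -/
noncomputable def Δ0 : A0 K A →ₐ[K] A0 K A ⊗[K] A0 K A :=
  Ideal.Quotient.liftₐ _ ((Algebra.TensorProduct.map (Ideal.Quotient.mkₐ K _) (Ideal.Quotient.mkₐ K _)).comp
    (comulAlgHom K A)) fun a ha =>
    map_eq_zero_of_mem_pow (isNilpotent_nilradical' (K := K) _) _ _ (fun x hx => by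
      refine mem_nilradical.mpr (lift_ε0_nil K A _ ?_)
      rw [AlgHom.comp_apply, comulAlgHom_apply, ← RingHom.mem_ker.mp hx, ← lift_counit_both (K := K) x]
      generalize comul (R := K) x = z
      induction z using TensorProduct.induction_on with
      | zero => simp
      | add z₁ z₂ h₁ h₂ => simp only [map_add, h₁, h₂]
      | tmul x y => simp) ha

theorem Δ0_mk (a : A) : Δ0 K A (Ideal.Quotient.mk _ a) =
    Algebra.TensorProduct.map (Ideal.Quotient.mkₐ K (ideal0 K A)) (Ideal.Quotient.mkₐ K (ideal0 K A))
      (comul (R := K) a) := rfl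

/-- The neutral component with its comultiplication. -/
noncomputable def comul0 : CounitalComul K (A0 K A) where
  ε := ε0 K A
  Δ := Δ0 K A
  lid b := by
    obtain ⟨a, rfl⟩ := Ideal.Quotient.mk_surjective b
    rw [Δ0_mk]
    conv_rhs => rw [← lift_counit_left (K := K) a]
    generalize comul (R := K) a = z
    induction z using TensorProduct.induction_on with
    | zero => simp
    | add z₁ z₂ h₁ h₂ => simp only [map_add, h₁, h₂]
    | tmul x y => simp [← Ideal.Quotient.mk_algebraMap]
  rid b := by
    obtain ⟨a, rfl⟩ := Ideal.Quotient.mk_surjective b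
    rw [Δ0_mk]
    conv_rhs => rw [← lift_counit_right (K := K) a]
    generalize comul (R := K) a = z
    induction z using TensorProduct.induction_on with
    | zero => simp
    | add z₁ z₂ h₁ h₂ => simp only [map_add, h₁, h₂]
    | tmul x y => simp [← Ideal.Quotient.mk_algebraMap]

/-- The order of the neutral component. -/
noncomputable def N0 : ℕ := Module.finrank K (A0 K A)

theorem N0_eq_pow (q : ℕ) [ExpChar K q] [PerfectRing K q] : ∃ e, N0 K A = q ^ e :=
  have := isLocalRing_A0 K A
  finrank_local_eq_pow q (comul0 K A)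

/-- The inclusion of the neutral component. -/
noncomputable def incl0 : WithConv (A →ₐ[K] A0 K A) := toConv (Ideal.Quotient.mkₐ K _)

theorem convPow_lin_mem (L : WithConv (A →ₗ[K] A0 K A)) (m : Ideal (A0 K A))
    (hL : ∀ a, L.ofConv a ∈ m) : ∀ (j : ℕ) (a : A), (L ^ j).ofConv a ∈ m ^ j := by
  intro j
  induction j with
  | zero => intro a; simp
  | succ j ih =>
    intro a
    rw [pow_succ L, LinearMap.convMul_apply]
    generalize comul (R := K) a = z
    induction z using TensorProduct.induction_on with
    | zero => simp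
    | add z₁ z₂ h₁ h₂ => simp only [map_add]; exact add_mem h₁ h₂
    | tmul x y => simpa [pow_succ] using Ideal.mul_mem_mul (ih x) (hL y)

theorem incl0_pow (q : ℕ) [ExpChar K q] [PerfectRing K q] : incl0 K A ^ N0 K A = 1 := by
  obtain ⟨e, he⟩ := N0_eq_pow K A q
  let P : WithConv (A →ₗ[K] A0 K A) := toConv (incl0 K A).ofConv.toLinearMap
  have hLmem : ∀ a, (P - 1).ofConv a ∈ nilradical (A0 K A) := fun a => by
    refine mem_nilradical.mpr (isNilpotent_of_ε0 K A _ ?_)
    simp [P, incl0]
  have hL : (P - 1) ^ N0 K A = 0 := by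
    refine WithConv.ext (LinearMap.ext fun a => ?_)
    have := convPow_lin_mem K A _ _ hLmem (N0 K A) a
    rw [N0, Groth.Agent.S18387.result K (A0 K A), Ideal.mem_bot] at this
    simpa [N0] using this
  apply WithConv.ext
  apply AlgHom.toLinearMap_injective
  apply WithConv.toConv_injective
  rw [AlgHom.toLinearMap_convPow, AlgHom.toLinearMap_convOne]
  show P ^ N0 K A = 1
  rw [he] at hL ⊢
  rcases expChar_is_prime_or_one K q with hq | rfl
  · have : CharP K q := by
      obtain h | h := ‹ExpChar K q›
      · exact absurd hq Nat.not_prime_one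
      · assumption
    have hq0 : (q : WithConv (A →ₗ[K] A0 K A)) = 0 := by
      rw [← nsmul_one]
      refine WithConv.ext (LinearMap.ext fun a => ?_)
      simp [← Nat.cast_smul_eq_nsmul K, CharP.cast_eq_zero K q]
    obtain ⟨r, hr⟩ := (Commute.one_right (P - 1)).exists_add_pow_prime_pow_eq hq e
    rw [sub_add_cancel, hL, hq0] at hr
    simpa using hr
  · simpa [sub_eq_zero] using hL

/-- A point congruent to the unit modulo nilpotents is killed by the order of the neutral component. -/
theorem pow_eq_one_of_mod_nil (q : ℕ) [ExpChar K q] [PerfectRing K q] {C : Type v} [CommRing C]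
    [Algebra K C] (hC : IsNilpotent (nilradical C)) (g : WithConv (A →ₐ[K] C))
    (hg : ∀ a, counitAlgHom K A a = 0 → g.ofConv a ∈ nilradical C) : g ^ N0 K A = 1 := by
  let f : A0 K A →ₐ[K] C := Ideal.Quotient.liftₐ _ g.ofConv fun _ ha =>
    map_eq_zero_of_mem_pow hC g.ofConv _ (fun x hx => hg x hx) ha
  have : g = post f (incl0 K A) := eq_of_forall fun a => rfl
  rw [this, ← map_pow, incl0_pow K A q, map_one]

end Infinitesimal

end General

section AlgClosed

variable {K : Type u} [Field K] [IsAlgClosed K] {A : Type u} [CommRing A] [HopfAlgebra K A]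
  [Module.Finite K A]

variable (x : WithConv (A →ₐ[K] K))

/-- The local factor of `A` at a rational point. -/
abbrev Ax : Type u := A ⧸ (RingHom.ker x.ofConv ^ Module.finrank K A)

/-- Reduction of the local factor. -/
noncomputable def red : Ax x →ₐ[K] K :=
  Ideal.Quotient.liftₐ _ x.ofConv fun _ ha =>
    map_eq_zero_of_mem_pow ⟨1, by simp [nilradical_eq_zero]⟩ x.ofConv _
      (fun a ha => by rw [RingHom.mem_ker.mp ha]; exact zero_mem _) ha

theorem isNilpotent_of_red (b : Ax x) (hb : red x b = 0) : IsNilpotent b := by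
  obtain ⟨a, rfl⟩ := Ideal.Quotient.mk_surjective b
  refine ⟨Module.finrank K A, ?_⟩
  rw [← map_pow, Ideal.Quotient.eq_zero_iff_mem]
  exact Ideal.pow_mem_pow (show a ∈ RingHom.ker x.ofConv from hb) _

/-- The tautological point of the local factor. -/
noncomputable def upt : WithConv (A →ₐ[K] Ax x) := toConv (Ideal.Quotient.mkₐ K _)

/-- Constant points. -/
noncomputable def cst (C : Type v) [CommRing C] [Algebra K C] :
    WithConv (A →ₐ[K] K) →* WithConv (A →ₐ[K] C) := post (Algebra.ofId K C)

theorem post_red_upt : post (red x) (upt x) = x := eq_of_forall fun _ => rfl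

theorem post_cst {C : Type v} [CommRing C] [Algebra K C] {D : Type w} [CommRing D] [Algebra K D]
    (f : C →ₐ[K] D) (y : WithConv (A →ₐ[K] K)) : post f (cst C y) = cst D y :=
  eq_of_forall fun a => by simp [cst]

theorem cst_self (y : WithConv (A →ₐ[K] K)) : cst K y = y := eq_of_forall fun a => by simp [cst]

theorem mem_nil_of_post_red (g : WithConv (A →ₐ[K] Ax x)) (hg : post (red x) g = 1) (a : A)
    (ha : counitAlgHom K A a = 0) : g.ofConv a ∈ nilradical (Ax x) := by
  refine mem_nilradical.mpr (isNilpotent_of_red x _ ?_)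
  rw [← post_apply, hg, one_apply, ha, map_zero]

theorem finrank_Ax : Module.finrank K (Ax x) = N0 K A := by
  have hC : IsNilpotent (nilradical (Ax x)) := isNilpotent_nilradical' (K := K) _
  let h := cst (Ax x) x⁻¹ * upt x
  have hh : post (red x) h = 1 := by
    rw [map_mul, post_cst, cst_self, post_red_upt, inv_mul_cancel]
  let φ : A0 K A →ₐ[K] Ax x := Ideal.Quotient.liftₐ _ h.ofConv fun _ ha =>
    map_eq_zero_of_mem_pow hC h.ofConv _ (fun a ha => mem_nil_of_post_red x h hh a ha) ha
  have hφ : post φ (incl0 K A) = h := eq_of_forall fun _ => rfl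
  let g := cst (A0 K A) x * incl0 K A
  have hg : post (ε0 K A) g = x := by
    rw [map_mul, post_cst, cst_self]
    have : post (ε0 K A) (incl0 K A) = 1 := eq_of_forall fun a => by simp [incl0, one_apply]
    rw [this, mul_one]
  let ψ : Ax x →ₐ[K] A0 K A := Ideal.Quotient.liftₐ _ g.ofConv fun _ ha =>
    map_eq_zero_of_mem_pow (isNilpotent_nilradical' (K := K) _) g.ofConv _ (fun a ha => by
      refine mem_nilradical.mpr (isNilpotent_of_ε0 K A _ ?_)
      rw [← post_apply, hg]
      exact RingHom.mem_ker.mp ha) ha
  have hψ : post ψ (upt x) = g := eq_of_forall fun _ => rfl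
  have h1 : φ.comp ψ = AlgHom.id K _ := by
    have : post φ g = upt x := by
      rw [map_mul, post_cst, hφ, ← mul_assoc, ← map_mul, mul_inv_cancel, map_one, one_mul]
    refine AlgHom.ext fun b => ?_
    obtain ⟨a, rfl⟩ := Ideal.Quotient.mk_surjective b
    have := congrArg (fun q => q.ofConv a) this
    exact this
  have h2 : ψ.comp φ = AlgHom.id K _ := by
    have : post ψ h = incl0 K A := by
      rw [map_mul, post_cst, hψ, ← mul_assoc, ← map_mul, inv_mul_cancel, map_one, one_mul]
    refine AlgHom.ext fun b => ?_
    obtain ⟨a, rfl⟩ := Ideal.Quotient.mk_surjective b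
    have := congrArg (fun q => q.ofConv a) this
    exact this
  exact (AlgEquiv.ofAlgHom ψ φ h2 h1).toLinearEquiv.finrank_eq

theorem ker_injective : Function.Injective fun x : WithConv (A →ₐ[K] K) => RingHom.ker x.ofConv := by
  intro x y h
  refine eq_of_forall fun a => ?_
  have h' : RingHom.ker x.ofConv = RingHom.ker y.ofConv := h
  have : a - algebraMap K A (y.ofConv a) ∈ RingHom.ker x.ofConv := by
    rw [h', RingHom.mem_ker]; simp
  simpa [sub_eq_zero] using this

theorem isMaximal_ker : (RingHom.ker x.ofConv).IsMaximal :=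
  RingHom.ker_isMaximal_of_surjective x.ofConv fun c => ⟨algebraMap K A c, by simp⟩

omit x in
theorem finite_points : Finite (WithConv (A →ₐ[K] K)) :=
  have : IsArtinianRing A := isArtinian_of_tower K inferInstance
  Finite.of_injective (β := MaximalSpectrum A) (fun x => ⟨RingHom.ker x.ofConv, isMaximal_ker x⟩)
    fun _ _ h => ker_injective (congrArg MaximalSpectrum.asIdeal h)

omit x in
theorem exists_point (M : Ideal A) [M.IsMaximal] :
    ∃ x : WithConv (A →ₐ[K] K), RingHom.ker x.ofConv = M := by
  let : Field (A ⧸ M) := Ideal.Quotient.field M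
  let e : K ≃ₐ[K] A ⧸ M := AlgEquiv.ofBijective (Algebra.ofId K (A ⧸ M))
    ⟨(algebraMap K (A ⧸ M)).injective, (IsAlgClosed.algebraMap_bijective_of_isIntegral).2⟩
  refine ⟨toConv (e.symm.toAlgHom.comp (Ideal.Quotient.mkₐ K M)), ?_⟩
  ext a
  simp [RingHom.mem_ker, Ideal.Quotient.eq_zero_iff_mem]

omit x in
/-- `A` is the product of its local factors. -/
theorem bijective_pi : Function.Bijective
    (AlgHom.pi fun x : WithConv (A →ₐ[K] K) => (upt x).ofConv) := by
  classical
  have : IsArtinianRing A := isArtinian_of_tower K inferInstance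
  have := finite_points (K := K) (A := A)
  have : Fintype (WithConv (A →ₐ[K] K)) := Fintype.ofFinite _
  let I : WithConv (A →ₐ[K] K) → Ideal A := fun x => RingHom.ker x.ofConv ^ Module.finrank K A
  have hcop : Pairwise (Function.onFun IsCoprime I) := fun x y hxy =>
    IsCoprime.pow (@Ideal.isCoprime_of_isMaximal _ _ _ _ (isMaximal_ker x) (isMaximal_ker y)
      (fun h => hxy (ker_injective h)))
  refine ⟨?_, fun b => ?_⟩
  · rw [injective_iff_map_eq_zero]
    intro a ha
    have hI : ∀ x, a ∈ I x := fun x => Ideal.Quotient.eq_zero_iff_mem.mp (congrFun ha x)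
    have hprod : ∏ x, I x = ⨅ x ∈ (Finset.univ : Finset (WithConv (A →ₐ[K] K))), I x :=
      Ideal.prod_eq_iInf_of_pairwise_isCoprime fun x _ y _ h => hcop h
    have ha' : a ∈ ∏ x, I x := by rw [hprod]; simp [hI]
    rw [Finset.prod_pow] at ha'
    have hle : ∏ x : WithConv (A →ₐ[K] K), RingHom.ker x.ofConv ≤ nilradical A := by
      intro z hz
      rw [nilradical_eq_sInf, Ideal.mem_sInf]
      intro (M : Ideal A) hM
      have : M.IsPrime := hM
      have : M.IsMaximal := IsArtinianRing.isMaximal_of_isPrime M
      obtain ⟨x, rfl⟩ := exists_point (K := K) M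
      exact Ideal.prod_le_inf.trans (Finset.inf_le (Finset.mem_univ x)) hz
    have := Ideal.pow_right_mono hle _ ha'
    rwa [Groth.Agent.S18387.result K A, Ideal.mem_bot] at this
  · obtain ⟨r, hr⟩ := Ideal.pi_quotient_surjective hcop b
    exact ⟨r, funext hr⟩

omit x in
theorem finrank_eq_card_mul :
    Module.finrank K A = Nat.card (WithConv (A →ₐ[K] K)) * N0 K A := by
  have := finite_points (K := K) (A := A)
  have : Fintype (WithConv (A →ₐ[K] K)) := Fintype.ofFinite _
  have e := (AlgEquiv.ofBijective _ (bijective_pi (K := K) (A := A))).toLinearEquiv.finrank_eq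
  rw [e, Module.finrank_pi_fintype, Finset.sum_congr rfl fun x _ => finrank_Ax x]
  simp [Nat.card_eq_fintype_card]

omit x in
/-- A finite group scheme over an algebraically closed field is killed by its order. -/
theorem id_pow_finrank_algClosed : toConv (AlgHom.id K A) ^ Module.finrank K A = 1 := by
  have := finite_points (K := K) (A := A)
  obtain ⟨q, hq⟩ := ExpChar.exists K
  rw [finrank_eq_card_mul]
  refine eq_of_forall fun a => (bijective_pi (K := K) (A := A)).1 (funext fun x => ?_)
  have hC : IsNilpotent (nilradical (Ax x)) := isNilpotent_nilradical' (K := K) _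
  have hx : upt x ^ (Nat.card (WithConv (A →ₐ[K] K)) * N0 K A) = 1 := by
    rw [pow_mul]
    refine pow_eq_one_of_mod_nil K A q hC _ fun a ha => mem_nil_of_post_red x _ ?_ a ha
    rw [map_pow, post_red_upt, pow_card_eq_one']
  have e : post (upt x).ofConv (toConv (AlgHom.id K A)) = upt x := eq_of_forall fun _ => rfl
  have := congrArg (fun g => g.ofConv a) hx
  rw [← e, ← map_pow] at this
  refine this.trans ?_
  simp [one_apply, upt]

omit x in
/-- If the order is invertible, the algebra is a power of the ground field. -/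
theorem etale_algClosed (h : (Module.finrank K A : K) ≠ 0) : Algebra.Etale K A := by
  have := finite_points (K := K) (A := A)
  obtain ⟨q, hq⟩ := ExpChar.exists K
  obtain ⟨e, he⟩ := N0_eq_pow K A q
  have h1 : N0 K A = 1 := by
    rw [finrank_eq_card_mul, he, Nat.cast_mul, Nat.cast_pow] at h
    rcases hq with h' | h'
    · simpa using he
    · rcases e with _ | e
      · simpa using he
      · exact absurd (by simp [CharP.cast_eq_zero K q]) h
  let E : A ≃ₐ[K] (WithConv (A →ₐ[K] K) → K) := (AlgEquiv.ofBijective _ (bijective_pi (K := K) (A := A))).trans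
    (AlgEquiv.piCongrRight fun x => AlgEquiv.ofBijective (red x) (by
      have hs : Function.Surjective (red x) := fun c => ⟨algebraMap K _ c, by simp⟩
      exact ⟨(LinearMap.injective_iff_surjective_of_finrank_eq_finrank
        (f := (red x).toLinearMap) (by rw [finrank_Ax, h1, Module.finrank_self])).mpr hs, hs⟩))
  have : Algebra.Etale K (WithConv (A →ₐ[K] K) → K) := inferInstance
  exact Algebra.Etale.of_equiv E.symm

end AlgClosed

section BaseChange

variable {k : Type u} [Field k] (K : Type u) [Field K] [Algebra k K] {A : Type u} [CommRing A]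
  [Bialgebra k A]

/-- Restriction of points along base change. -/
noncomputable def restrictPt (C : Type v) [CommRing C] [Algebra K C] [Algebra k C] [IsScalarTower k K C] :
    WithConv (K ⊗[k] A →ₐ[K] C) →* WithConv (A →ₐ[k] C) where
  toFun f := toConv ((f.ofConv.restrictScalars k).comp Algebra.TensorProduct.includeRight)
  map_one' := eq_of_forall fun a => by
    simp [← IsScalarTower.algebraMap_apply, Bialgebra.TensorProduct.counitAlgHom_def,
      AlgHom.convOne_def, Algebra.smul_def]
  map_mul' f g := eq_of_forall fun a => by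
    show (f * g).ofConv (1 ⊗ₜ a) = _
    rw [AlgHom.convMul_apply f g, AlgHom.convMul_apply, ← comulAlgHom_apply,
      Bialgebra.TensorProduct.comulAlgHom_def]
    simp only [AlgHom.comp_apply, Algebra.TensorProduct.map_tmul, comulAlgHom_apply, Bialgebra.comul_one,
      Algebra.TensorProduct.one_def]
    generalize comul (R := k) a = z
    induction z using TensorProduct.induction_on with
    | zero => simp
    | add z₁ z₂ h₁ h₂ => simp only [TensorProduct.tmul_add, map_add, h₁, h₂]
    | tmul x y => simp

end BaseChange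

variable {k : Type u} [Field k] {A : Type u} [CommRing A] [HopfAlgebra k A] [Module.Finite k A]

/-- A finite group scheme over a field is killed by its order. -/
theorem id_pow_finrank : toConv (AlgHom.id k A) ^ Module.finrank k A = 1 := by
  let K := AlgebraicClosure k
  have h := congrArg (restrictPt K (K ⊗[k] A)) (id_pow_finrank_algClosed (K := K) (A := K ⊗[k] A))
  rw [map_pow, map_one, Module.finrank_baseChange] at h
  let j : A →ₐ[k] K ⊗[k] A := Algebra.TensorProduct.includeRight
  have e : restrictPt K (K ⊗[k] A) (toConv (AlgHom.id K (K ⊗[k] A))) = post j (toConv (AlgHom.id k A)) :=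
    eq_of_forall fun _ => rfl
  rw [e, ← map_pow] at h
  refine eq_of_forall fun a => Algebra.TensorProduct.includeRight_injective (algebraMap k K).injective ?_
  have := congrArg (fun g => g.ofConv a) (h.trans (map_one (post j)).symm)
  exact this

theorem etale_of_finrank_ne_zero (h : (Module.finrank k A : k) ≠ 0) : Algebra.Etale k A := by
  let K := AlgebraicClosure k
  have : Algebra.Etale K (K ⊗[k] A) := etale_algClosed (by
    rw [Module.finrank_baseChange, ← map_natCast (algebraMap k K)]
    exact (map_ne_zero (algebraMap k K)).mpr h)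
  exact Algebra.Etale.of_etale_tensorProduct_of_faithfullyFlat K

end Groth.Agent.FinGrpLib
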